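import Cfsg.Agent.OD.Pre
import Cfsg.Agent.H6.Top2
set_option autoImplicit false
set_option maxRecDepth 100000
set_option Elab.async false
set_option linter.all false
namespace CfH6.S4A
open CfH6 MulAction
noncomputable def n0_0 : Net := mkNet (nat_lit 96) [(nat_lit 48, (nat_lit 0x89080070000c89080070000c)), (nat_lit 24, (nat_lit 0x8cbe008cbe0007910007910)), (nat_lit 12, (nat_lit 0x82082660660d44944740740)), (nat_lit 6, (nat_lit 0xc30596b2ceb2924000000f30)), (nat_lit 3, (nat_lit 0x42003842402403621c900936))] [((nat_lit 0x1208249041041008240208), nat_lit 1), ((nat_lit 0x92482012092012082492), nat_lit 1), ((nat_lit 0x1241001041001040208), nat_lit 1)]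
noncomputable def n0_1 : Net := mkNet (nat_lit 96) [(nat_lit 48, (nat_lit 0x450800100000450800100000)), (nat_lit 24, (nat_lit 0x86da0086da0004908004908)), (nat_lit 12, (nat_lit 0x14450442c44624620518518)), (nat_lit 6, (nat_lit 0x18630ce28c700009a630c924)), (nat_lit 3, (nat_lit 0x480f3800c020da4000d98220))] [((nat_lit 0x49040000208200049200000), nat_lit 1), ((nat_lit 0x80412002402082012480480), nat_lit 1), ((nat_lit 0x200000200000009200000), nat_lit 1)]
noncomputable def n0_2 : Net := mkNet (nat_lit 96) [(nat_lit 48, (nat_lit 0x8a718b8008108a718b800810)), (nat_lit 24, (nat_lit 0xc0f260c0b240800010800010)), (nat_lit 12, (nat_lit 0x820820206206540540440440)), (nat_lit 6, (nat_lit 0x82bc0610bae71c30c440820)), (nat_lit 3, (nat_lit 0x420220012e00c80cb6924900))] [((nat_lit 0x1249001241049209200000), nat_lit 1), ((nat_lit 0x492492010002010402082), nat_lit 1), ((nat_lit 0x249001000001008200000), nat_lit 1)]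
noncomputable def n0_3 : Net := mkNet (nat_lit 96) [(nat_lit 48, (nat_lit 0xfd4f12405010fd4f12405010)), (nat_lit 24, (nat_lit 0xc11789fc687600e23000c620)), (nat_lit 12, (nat_lit 0xbe502e7d945a45445428e08a)), (nat_lit 6, (nat_lit 0x2c49f0bd8592830182eba504)), (nat_lit 3, (nat_lit 0x7aa09ab10884910936038a10))] [((nat_lit 0x241048000248041009008248), nat_lit 1), ((nat_lit 0x82092402082082082492490), nat_lit 1), ((nat_lit 0x40008001041041001001248), nat_lit 1)]
noncomputable def n0_4 : Net := mkNet (nat_lit 96) [(nat_lit 48, (nat_lit 0x3180a04010003180a040100)), (nat_lit 24, (nat_lit 0x82dc5481ec244441c04441c0)), (nat_lit 12, (nat_lit 0x67a64abceb7e88c88c440440)), (nat_lit 6, (nat_lit 0xbae2089a6fbe0001a0104000)), (nat_lit 3, (nat_lit 0xe12002e12980a08804000d80))] [((nat_lit 0x49201249209240208040040), nat_lit 1), ((nat_lit 0x490492490482482082080400), nat_lit 1), ((nat_lit 0x208201248201240000040000), nat_lit 1)]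
noncomputable def n0_5 : Net := mkNet (nat_lit 96) [(nat_lit 48, (nat_lit 0x111822480508111822480108)), (nat_lit 24, (nat_lit 0x42cb5842cb582f75482f7548)), (nat_lit 12, (nat_lit 0x68e68e39a3927f47f432c32c)), (nat_lit 6, (nat_lit 0x38e718e78f18c30e3841070c)), (nat_lit 3, (nat_lit 0x48e900424ca8e12db8db8d80))] [((nat_lit 0x201241008040001208248049), nat_lit 1), ((nat_lit 0x92090012000012092092492), nat_lit 1), ((nat_lit 0x8040008000001001041049), nat_lit 1)]
noncomputable def n1_5 : Net := mkNet (nat_lit 96) [(nat_lit 48, (nat_lit 0xc1b447625c22c1cb97c17282)), (nat_lit 24, (nat_lit 0xd2183293f4863a7e6c18271e)), (nat_lit 12, (nat_lit 0xfd1efaa7942088aae4904092)), (nat_lit 6, (nat_lit 0xf0a728008cb23ac0c2b1cc3c)), (nat_lit 3, (nat_lit 0xe20590d8048c11afac520490))] [((nat_lit 0x209200200000208048009048), nat_lit 1), ((nat_lit 0x482480090082400410412402), nat_lit 1), ((nat_lit 0x40200008040200000001000), nat_lit 1)]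
noncomputable def n2_0 : Net := mkNet (nat_lit 20) [(nat_lit 10, (nat_lit 0xe83a0)), (nat_lit 5, (nat_lit 0x63210))] [((nat_lit 0x9404), nat_lit 1), ((nat_lit 0x50940), nat_lit 1), ((nat_lit 0x9480), nat_lit 1), ((nat_lit 0x940), nat_lit 1)]
noncomputable def n2_1 : Net := mkNet (nat_lit 20) [(nat_lit 10, (nat_lit 0x651d2)), (nat_lit 5, (nat_lit 0x3018e))] [((nat_lit 0x204a0), nat_lit 1), ((nat_lit 0x12142), nat_lit 1), ((nat_lit 0x210a0), nat_lit 1), ((nat_lit 0x940), nat_lit 1), ((nat_lit 0x480), nat_lit 1)]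
noncomputable def n2_2 : Net := mkNet (nat_lit 20) [(nat_lit 10, (nat_lit 0x1806)), (nat_lit 5, (nat_lit 0x31a52))] [((nat_lit 0x1400), nat_lit 1), ((nat_lit 0x10142), nat_lit 1), ((nat_lit 0xa0), nat_lit 1), ((nat_lit 0x140), nat_lit 1)]
noncomputable def n3_0 : Net := mkNet (nat_lit 16) [(nat_lit 8, (nat_lit 0x685c)), (nat_lit 4, (nat_lit 0xde08)), (nat_lit 2, (nat_lit 0xc420))] [((nat_lit 0x4114), nat_lit 1)]
noncomputable def n3_1 : Net := mkNet (nat_lit 16) [(nat_lit 8, (nat_lit 0xd0d0)), (nat_lit 4, (nat_lit 0xa000)), (nat_lit 2, (nat_lit 0x4400))] [((nat_lit 0x14), nat_lit 1)]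
noncomputable def nets0 : List Net := [n0_0, n0_1, n0_2, n0_3, n0_4, n0_5]
noncomputable def nets1 : List Net := [n0_0, n0_1, n0_2, n0_3, n0_4, n1_5]
def ws1 : List (List ℕ) := [[0],
  [1],
  [2],
  [3],
  [4],
  [5, 2, 1, 0, 3, 2, 1, 2, 5]]
noncomputable def nets2 : List Net := [n2_0, n2_1, n2_2]
def ws2 : List (List ℕ) := [[3, 4, 0, 4, 3],
  [1, 5, 4, 5, 4],
  [2]]
noncomputable def nets3 : List Net := [n3_0, n3_1]
def ws3 : List (List ℕ) := [[2, 0, 1, 2, 1, 2],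
  [0]]
def sig : List (List ℕ) := [[0],
  [1],
  [2],
  [3],
  [4],
  [5]]
def eqs0 : List (List ℕ × List ℕ) := [([0, 0], []),
  ([1, 1], []),
  ([2, 2], []),
  ([3, 3], []),
  ([4, 4], []),
  ([5, 5], []),
  ([0, 1], [1, 0]),
  ([0, 1, 2, 0, 1, 2, 0, 1], [2, 0, 1, 2, 0, 1, 2]),
  ([1, 2, 1, 2, 1], [2, 1, 2, 1, 2]),
  ([0, 2, 0], [2, 0, 2]),
  ([0, 1, 2, 1, 3, 0, 1, 2], [3, 1, 2, 0, 1, 3, 1]),
  ([0, 2, 0, 3, 0], [3, 0, 3, 4, 2]),
  ([0, 3, 1, 3], [3, 1, 3, 0]),
  ([1, 4], [4, 1]),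
  ([0, 4], [4, 0]),
  ([2, 3], [3, 2]),
  ([1, 3, 5, 2, 5, 3], [3, 5, 2, 5, 3, 1]),
  ([2, 5, 2, 5], [5, 2, 5, 2]),
  ([3, 5, 3], [5, 3, 5]),
  ([0, 3, 5], [3, 5, 4]),
  ([0, 5], [5, 0])]
def eqs : List (List ℕ × List ℕ) := eqs0
def lU : List (ℕ × ℕ) := [(0, 15), (16, 2), (20, 68)]
noncomputable def U : ℕ := ivls lU
def l1 : List (ℕ × ℕ) := [(1, 13), (16, 2), (20, 5)]
noncomputable def S1 : ℕ := ivls l1
def w1 : List ℕ := [5]
def l2 : List (ℕ × ℕ) := [(14, 1), (25, 63)]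
noncomputable def S2 : ℕ := ivls l2
def w2 : List ℕ := [5, 2, 5]
noncomputable def J : List (List ℕ × ℕ × ℕ) := [(w1, 20, S1), (w2, 14, S2)]
def lBig : List (ℕ × ℕ) := [(14, 1), (25, 63)]
noncomputable def J2 : List (List ℕ × ℕ × ℕ) := [([0], 14, S2)]
noncomputable def J1 : List (List ℕ × ℕ × ℕ) := [([0, 3, 0], 14, S2)]
def ex : List (List ℕ) := [[1, 4, 5, 2]]
def bs' : List ℕ := [0, 14, 1, 2]
end CfH6.S4A
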